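import Groth.Agent.RefRank.HomSec
import Groth.Agent.PicAux.TensorLift
import Groth.Agent.QCohMod.Tensor
import Groth.Agent.QCohMod.QCQS
import Groth.Agent.QCohMod.FTCriterion
import Groth.Agent.QCohMod.FPColimit
import Groth.Agent.PropsBasic.FPSections
import Groth.Prelude.Def_SecTwist
import Mathlib.LinearAlgebra.TensorProduct.RightExactness
import Mathlib.RingTheory.Finiteness.Ideal

/-!
# Extension of sections along tensor powers of a finitely presented module

`σ : P ⟶ O` with `σ(P) = 0` outside of the open `U`: every section over `U` of a quasi-coherent module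
extends, after composing with a high power of `σ`, to a map out of a tensor power of `P`
(qcqs schemes, no Noetherian hypothesis).
-/

set_option autoImplicit false
set_option backward.isDefEq.respectTransparency false
set_option backward.isDefEq.respectTransparency.types false

universe u

open CategoryTheory CategoryTheory.Limits AlgebraicGeometry Opposite TopologicalSpace TensorProduct
open Groth.QCohMod
open Groth.PicAux (PTen ptenUnit tmulSec toFun)

namespace Groth.ResPropQC

variable {X : Scheme.{u}} {P M : X.Modules}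

/-- The tensor powers of a quasi-coherent module are quasi-coherent. -/
theorem isQCoh_pow [P.IsQuasicoherent] : ∀ n, (CohB1.tensorPow P n).IsQuasicoherent
  | 0 => inferInstanceAs (Coh.structureModule X).IsQuasicoherent
  | n + 1 => by
    haveI := isQCoh_pow n
    exact isQCoh_tensorMod (M := CohB1.tensorPow P n) (N := P)

/-- The tensor product of two finitely presented modules is finitely presented. -/
theorem fp_tensor {R A B : Type u} [CommRing R] [AddCommGroup A] [Module R A] [AddCommGroup B]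
    [Module R B] [Module.FinitePresentation R A] [Module.FinitePresentation R B] :
    Module.FinitePresentation R (A ⊗[R] B) := by
  obtain ⟨m, π, hπ, hk⟩ : ∃ (m : ℕ) (π : (Fin m → R) →ₗ[R] A), Function.Surjective π ∧
      (LinearMap.ker π).FG := by
    obtain ⟨m, π, hπ⟩ := Module.Finite.exists_fin' R A
    exact ⟨m, π, hπ, Module.FinitePresentation.fg_ker π hπ⟩
  haveI : Module.Finite R (LinearMap.ker π) := Module.Finite.iff_fg.2 hk
  haveI : Module.FinitePresentation R ((Fin m → R) ⊗[R] B) :=
    Module.FinitePresentation.of_equiv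
      ((TensorProduct.comm R (Fin m → R) B).trans (TensorProduct.piScalarRight R R B (Fin m))).symm
  refine Module.finitePresentation_of_surjective (LinearMap.rTensor B π)
    (LinearMap.rTensor_surjective B hπ) ?_
  rw [LinearMap.exact_iff.1 (rTensor_exact B (LinearMap.exact_subtype_ker_map π) hπ)]
  rw [LinearMap.range_eq_map]
  exact (Module.Finite.fg_top).map _

variable (P) in
/-- Linear maps from the sections of the `n`-th tensor power to those of `M` over `V`. -/
abbrev Lin (M : X.Modules) (V : X.Opens) (n : ℕ) : Type u :=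
  Γ(CohB1.tensorPow P n, V) →ₗ[Γ(X, V)] Γ(M, V)

/-- The functional of `σ` on sections. -/
noncomputable def fnl (σ : P ⟶ Coh.structureModule X) (V : X.Opens) : Γ(P, V) →ₗ[Γ(X, V)] Γ(X, V) where
  toFun b := toFun (σ.app V b)
  map_add' a b := map_add (σ.app V).hom a b
  map_smul' r b := Scheme.Modules.Hom.app_smul σ r b

theorem fnl_res (σ : P ⟶ Coh.structureModule X) {V W : X.Opens} (h : W ≤ V) (b : Γ(P, V)) :
    fnl σ W (res P h b) = resFun X h (fnl σ V b) :=
  congrArg toFun (res_app σ h b).symm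

variable (σ : P ⟶ Coh.structureModule X)

/-- The powers of `σ`. -/
noncomputable def chi : ∀ n : ℕ, CohB1.tensorPow P n ⟶ Coh.structureModule X
  | 0 => 𝟙 _
  | n + 1 => KoszTw.tensorMap (chi n) σ ≫ (SecTwist.unitorR (Coh.structureModule X)).hom

theorem chi_tmul (n : ℕ) (V : X.Opens) (a : Γ(CohB1.tensorPow P n, V)) (b : Γ(P, V)) :
    fnl (chi σ (n + 1)) V (tmulSec a b) = fnl σ V b * fnl (chi σ n) V a := by
  change toFun ((SecTwist.unitorR (Coh.structureModule X)).hom.app V
    ((KoszTw.tensorMap (chi σ n) σ).app V (tmulSec a b))) = _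
  rw [Groth.PicAux.tensorMap_app_tmulSec]
  exact congrArg toFun (SecTwist.unitorR_tmul (Coh.structureModule X) V _ _)

/-- Extend a map out of the `n`-th power to the next one by `σ`. -/
noncomputable def stepHom {n : ℕ} (φ : CohB1.tensorPow P n ⟶ M) : CohB1.tensorPow P (n + 1) ⟶ M :=
  KoszTw.tensorMap φ σ ≫ (SecTwist.unitorR M).hom

theorem stepHom_tmul {n : ℕ} (φ : CohB1.tensorPow P n ⟶ M) (V : X.Opens)
    (a : Γ(CohB1.tensorPow P n, V)) (b : Γ(P, V)) :
    (stepHom σ φ).app V (tmulSec a b) = fnl σ V b • φ.app V a := by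
  change (SecTwist.unitorR M).hom.app V ((KoszTw.tensorMap φ σ).app V (tmulSec a b)) = _
  rw [Groth.PicAux.tensorMap_app_tmulSec]
  exact SecTwist.unitorR_tmul M V _ _

section affine

variable [P.IsQuasicoherent] {V : X.Opens} (hV : IsAffineOpen V)

/-- The unit as a linear map. -/
noncomputable def ptenLin (n : ℕ) (V : X.Opens) :
    PTen (CohB1.tensorPow P n) P V →ₗ[Γ(X, V)] Γ(CohB1.tensorPow P (n + 1), V) where
  toFun := ptenUnit _ P V
  map_add' := map_add _
  map_smul' r p := Groth.PicAux.ptenUnit_smul _ P r p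

include hV in
theorem ptenLin_bijective (n : ℕ) : Function.Bijective (ptenLin (P := P) n V) := by
  haveI := isQCoh_pow (P := P) n
  exact ptenUnit_bijective (M := CohB1.tensorPow P n) (N := P) hV

/-- Sections of a tensor power over an affine open. -/
noncomputable def secPow (n : ℕ) :
    PTen (CohB1.tensorPow P n) P V ≃ₗ[Γ(X, V)] Γ(CohB1.tensorPow P (n + 1), V) :=
  LinearEquiv.ofBijective (ptenLin n V) (ptenLin_bijective hV n)

theorem secPow_tmul (n : ℕ) (a : Γ(CohB1.tensorPow P n, V)) (b : Γ(P, V)) :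
    secPow hV n (a ⊗ₜ b) = tmulSec a b := rfl

include hV in
theorem pow_induction (n : ℕ) {C : Γ(CohB1.tensorPow P (n + 1), V) → Prop} (h0 : C 0)
    (hadd : ∀ x y, C x → C y → C (x + y)) (ht : ∀ a b, C (tmulSec a b)) : ∀ t, C t := by
  intro t
  obtain ⟨p, rfl⟩ := (secPow hV n).surjective t
  induction p using TensorProduct.induction_on with
  | zero => rw [map_zero]; exact h0
  | tmul a b => rw [secPow_tmul]; exact ht a b
  | add p q hp hq => rw [map_add]; exact hadd _ _ hp hq

include hV in
theorem fp_pow (hP : CohB1.IsFP P) :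
    ∀ n, Module.FinitePresentation Γ(X, V) Γ(CohB1.tensorPow P n, V)
  | 0 => (inferInstance : Module.FinitePresentation Γ(X, V) Γ(X, V))
  | n + 1 => by
    haveI := fp_pow hP n
    haveI := Groth.PropsBasic.FPSections.finitePresentation_sections P hP hV
    haveI := fp_tensor (R := Γ(X, V)) (A := Γ(CohB1.tensorPow P n, V)) (B := Γ(P, V))
    exact Module.FinitePresentation.of_equiv (secPow hV n)

/-- The step on linear maps. -/
noncomputable def stepLin {n : ℕ} (f : Lin P M V n) : Lin P M V (n + 1) :=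
  (TensorProduct.lift (LinearMap.mk₂ Γ(X, V) (fun a b => fnl σ V b • f a)
      (fun a a' b => by rw [map_add, smul_add])
      (fun c a b => by rw [map_smul, smul_comm])
      (fun a b b' => by rw [map_add, add_smul])
      (fun c a b => by rw [map_smul, smul_eq_mul, mul_smul]))).comp (secPow hV n).symm.toLinearMap

theorem stepLin_tmul {n : ℕ} (f : Lin P M V n) (a : Γ(CohB1.tensorPow P n, V)) (b : Γ(P, V)) :
    stepLin σ hV f (tmulSec a b) = fnl σ V b • f a := by
  rw [← secPow_tmul hV n]
  simp only [stepLin, LinearMap.comp_apply, LinearEquiv.coe_coe, LinearEquiv.symm_apply_apply]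
  rfl

/-- Iterated steps. -/
noncomputable def iterLin {n : ℕ} (f : Lin P M V n) : ∀ k, Lin P M V (n + k)
  | 0 => f
  | k + 1 => stepLin σ hV (iterLin f k)

/-- The ideal of values of `σ`. -/
noncomputable def img (V : X.Opens) : Ideal Γ(X, V) := LinearMap.range (fnl σ V)

include hV in
theorem img_fg (hP : CohB1.IsFP P) : (img σ V).FG := by
  haveI := Groth.PropsBasic.FPSections.finitePresentation_sections P hP hV
  rw [img, LinearMap.range_eq_map]
  exact (Module.Finite.fg_top).map _

include hV in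
theorem chi_mem : ∀ (n : ℕ) (t : Γ(CohB1.tensorPow P n, V)), fnl (chi σ n) V t ∈ img σ V ^ n
  | 0, t => by rw [pow_zero, Ideal.one_eq_top]; trivial
  | n + 1, t => by
    revert t
    refine pow_induction hV n ?_ (fun x y hx hy => ?_) (fun a b => ?_)
    · rw [map_zero]; exact zero_mem _
    · rw [map_add]; exact add_mem hx hy
    · rw [chi_tmul, mul_comm, pow_succ]
      exact Ideal.mul_mem_mul (chi_mem n a) ⟨b, rfl⟩

/-- Steps shrink differences by the ideal of values. -/
theorem step_sub_mem {n : ℕ} (f g : Lin P M V n) (J : Submodule Γ(X, V) Γ(M, V))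
    (h : ∀ a, f a - g a ∈ J) (t) : stepLin σ hV f t - stepLin σ hV g t ∈ img σ V • J := by
  revert t
  refine pow_induction hV n ?_ (fun x y hx hy => ?_) (fun a b => ?_)
  · rw [map_zero, map_zero, sub_zero]; exact zero_mem _
  · rw [map_add, map_add, add_sub_add_comm]; exact add_mem hx hy
  · rw [stepLin_tmul, stepLin_tmul, ← smul_sub]
    exact Submodule.smul_mem_smul ⟨b, rfl⟩ (h a)

theorem iter_sub_mem {n : ℕ} (f g : Lin P M V n) (J : Submodule Γ(X, V) Γ(M, V))
    (h : ∀ a, f a - g a ∈ J) : ∀ (k : ℕ) t,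
      iterLin σ hV f k t - iterLin σ hV g k t ∈ img σ V ^ k • J
  | 0, t => by rw [pow_zero, Ideal.one_eq_top, Submodule.top_smul]; exact h t
  | k + 1, t => by
    rw [pow_succ', mul_smul]
    exact step_sub_mem σ hV _ _ _ (iter_sub_mem f g J h k) t

end affine

/-! ### Restriction of linear maps -/

section restrict

variable [P.IsQuasicoherent] {V W : X.Opens}

theorem lin_ext_res (hV : IsAffineOpen V) (hW : IsAffineOpen W) (h : W ≤ V) {n : ℕ}
    {f g : Lin P M W n} (e : ∀ a : Γ(CohB1.tensorPow P n, V),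
      f (res _ h a) = g (res _ h a)) : f = g := by
  haveI := isQCoh_pow (P := P) n
  obtain ⟨f', rfl⟩ := Groth.RefRank.secToLin_surjective hW f
  obtain ⟨g', rfl⟩ := Groth.RefRank.secToLin_surjective hW g
  refine congrArg Groth.RefRank.secToLin (Groth.RefRank.hom_ext_sec fun x => ?_)
  refine Groth.RefRank.stalkHom_ext hV (h x.2) fun a => ?_
  rw [← germ_res (CohB1.tensorPow P n) h x.1 x.2 a]
  exact (Groth.RefRank.germ_secToLin f' _ x.1 x.2).symm.trans
    ((congrArg (germ M x.1 x.2) (e a)).trans (Groth.RefRank.germ_secToLin g' _ x.1 x.2))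

/-- Restriction of a linear map to a smaller affine open. -/
theorem exists_rlin (hV : IsAffineOpen V) (h : W ≤ V) {n : ℕ} (f : Lin P M V n) :
    ∃ g : Lin P M W n, ∀ a, g (res _ h a) = res M h (f a) := by
  haveI := isQCoh_pow (P := P) n
  obtain ⟨f', rfl⟩ := Groth.RefRank.secToLin_surjective hV f
  exact ⟨Groth.RefRank.secToLin (res _ h f'), fun a => Groth.RefRank.secToLin_res h f' a⟩

/-- A chosen restriction. -/
noncomputable def rlin (hV : IsAffineOpen V) (h : W ≤ V) {n : ℕ} (f : Lin P M V n) : Lin P M W n :=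
  (exists_rlin hV h f).choose

theorem rlin_res (hV : IsAffineOpen V) (h : W ≤ V) {n : ℕ} (f : Lin P M V n)
    (a : Γ(CohB1.tensorPow P n, V)) : rlin hV h f (res _ h a) = res M h (f a) :=
  (exists_rlin hV h f).choose_spec a

theorem rlin_step (hV : IsAffineOpen V) (hW : IsAffineOpen W) (h : W ≤ V) {n : ℕ} (f : Lin P M V n) :
    rlin hV h (stepLin σ hV f) = stepLin σ hW (rlin hV h f) := by
  refine lin_ext_res hV hW h fun t => ?_
  rw [rlin_res]
  revert t
  refine pow_induction hV n ?_ (fun x y hx hy => ?_) (fun a b => ?_)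
  · simp only [map_zero]
  · simp only [map_add, hx, hy]
  · have e : res (CohB1.tensorPow P (n + 1)) h (tmulSec a b) = tmulSec (res _ h a) (res P h b) :=
      Groth.PicAux.res_tmulSec h a b
    rw [e, stepLin_tmul, stepLin_tmul, rlin_res, fnl_res, res_smul]

theorem rlin_iter (hV : IsAffineOpen V) (hW : IsAffineOpen W) (h : W ≤ V) {n : ℕ} (f : Lin P M V n) :
    ∀ k, rlin hV h (iterLin σ hV f k) = iterLin σ hW (rlin hV h f) k
  | 0 => rfl
  | k + 1 => by
    change rlin hV h (stepLin σ hV _) = stepLin σ hW _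
    rw [rlin_step σ hV hW, rlin_iter hV hW h f k]

end restrict

/-! ### Lifts of a section -/

section lift

variable {U : X.Opens} (s : Γ(M, U))

/-- The map `f` agrees with `χ • s` over `U`. -/
def IsLift (V : X.Opens) (n : ℕ) (f : Lin P M V n) : Prop :=
  ∀ a, res M (inf_le_left : V ⊓ U ≤ V) (f a) =
    resFun X (inf_le_left : V ⊓ U ≤ V) (fnl (chi σ n) V a) • res M (inf_le_right : V ⊓ U ≤ U) s

variable [P.IsQuasicoherent] [M.IsQuasicoherent] {σ s}

theorem IsLift.step {V : X.Opens} (hV : IsAffineOpen V) {n : ℕ} {f : Lin P M V n}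
    (hf : IsLift σ s V n f) : IsLift σ s V (n + 1) (stepLin σ hV f) := by
  intro t
  revert t
  refine pow_induction hV n ?_ (fun x y hx hy => ?_) (fun a b => ?_)
  · simp only [map_zero, zero_smul]
  · simp only [map_add, add_smul, hx, hy]
  · rw [stepLin_tmul, res_smul, hf a, chi_tmul, map_mul, mul_smul]

theorem IsLift.iter {V : X.Opens} (hV : IsAffineOpen V) {n : ℕ} {f : Lin P M V n}
    (hf : IsLift σ s V n f) : ∀ k, IsLift σ s V (n + k) (iterLin σ hV f k)
  | 0 => hf
  | k + 1 => (IsLift.iter hV hf k).step hV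

theorem IsLift.eq_of_le {V W : X.Opens} (hV : IsAffineOpen V) (hW : IsAffineOpen W) (h : W ≤ V)
    (hWU : W ≤ U) {n : ℕ} {f : Lin P M V n} (hf : IsLift σ s V n f)
    (a : Γ(CohB1.tensorPow P n, W)) :
    rlin hV h f a = fnl (chi σ n) W a • res M hWU s := by
  have key : rlin hV h f = (fnl (chi σ n) W).smulRight (res M hWU s) := by
    refine lin_ext_res hV hW h fun b => ?_
    rw [rlin_res, LinearMap.smulRight_apply]
    have := congrArg (res M (le_inf h hWU : W ≤ V ⊓ U)) (hf b)
    rw [res_res, res_smul, res_res, resFun_resFun] at this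
    rw [fnl_res]
    exact this
  rw [key]
  rfl

variable (σ) in
/-- A section of `M` over an affine `V` vanishing on `V ⊓ U` is killed by powers of values of `σ`. -/
theorem img_le_radical_ann {V : X.Opens} (hV : IsAffineOpen V)
    (hout : ∀ (W : X.Opens) (b : Γ(P, W)), X.basicOpen (fnl σ W b) ≤ U)
    {m : ℕ} (y : Fin m → Γ(M, V)) (hy : ∀ i, res M (inf_le_left : V ⊓ U ≤ V) (y i) = 0) :
    img σ V ≤ (Submodule.span Γ(X, V) (Set.range y)).annihilator.radical := by
  rintro a ⟨b, rfl⟩
  have hle : X.basicOpen (fnl σ V b) ≤ V ⊓ U := le_inf (X.basicOpen_le _) (hout V b)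
  have h1 : ∀ i, ∃ k : ℕ, fnl σ V b ^ k • y i = 0 := fun i =>
    exists_pow_smul_eq_zero_of_isCompact M hV.isCompact _ _ (by
      rw [← res_res M inf_le_left hle, hy, map_zero])
  choose k hk using h1
  refine ⟨Finset.univ.sup k, Submodule.mem_annihilator_span _ _ |>.2 ?_⟩
  rintro ⟨_, i, rfl⟩
  obtain ⟨c, hc⟩ := Nat.exists_eq_add_of_le (Finset.le_sup (f := k) (Finset.mem_univ i))
  change fnl σ V b ^ _ • y i = 0
  rw [hc, add_comm, pow_add, mul_smul, hk, smul_zero]

/-- Descend a map from generators. -/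
theorem exists_lift_aux {V : X.Opens} (hV : IsAffineOpen V) :
    ∀ (k n : ℕ) (G : Type u) [AddCommGroup G] [Module Γ(X, V) G]
      (π : G →ₗ[Γ(X, V)] Γ(CohB1.tensorPow P n, V)) (φ : G →ₗ[Γ(X, V)] Γ(M, V)),
      Function.Surjective π →
      (∀ x, res M (inf_le_left : V ⊓ U ≤ V) (φ x) =
        resFun X (inf_le_left : V ⊓ U ≤ V) (fnl (chi σ n) V (π x)) •
          res M (inf_le_right : V ⊓ U ≤ U) s) →
      (∀ a ∈ img σ V ^ k, ∀ x ∈ LinearMap.ker π, a • φ x = 0) →
      ∀ N, N = n + k → ∃ f : Lin P M V N, IsLift σ s V N f := by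
  intro k
  induction k with
  | zero =>
    intro n G _ _ π φ hπ hφ hk N hN
    subst hN
    have hle : LinearMap.ker π ≤ LinearMap.ker φ := fun x hx => by
      simpa using hk 1 (by simp) x hx
    refine ⟨((LinearMap.ker π).liftQ φ hle).comp (π.quotKerEquivOfSurjective hπ).symm.toLinearMap,
      fun a => ?_⟩
    obtain ⟨x, rfl⟩ := hπ a
    rw [LinearMap.comp_apply, LinearEquiv.coe_coe, ← π.quotKerEquivOfSurjective_apply_mk hπ x,
      LinearEquiv.symm_apply_apply]
    exact hφ x
  | succ k ih =>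
    intro n G _ _ π φ hπ hφ hk N hN
    let φ' : G ⊗[Γ(X, V)] Γ(P, V) →ₗ[Γ(X, V)] Γ(M, V) :=
      TensorProduct.lift (LinearMap.mk₂ Γ(X, V) (fun x b => fnl σ V b • φ x)
        (fun a a' b => by rw [map_add, smul_add])
        (fun c a b => by rw [map_smul, smul_comm])
        (fun a b b' => by rw [map_add, add_smul])
        (fun c a b => by rw [map_smul, smul_eq_mul, mul_smul]))
    have hφ' : ∀ x b, φ' (x ⊗ₜ b) = fnl σ V b • φ x := fun x b => rfl
    refine ih (n + 1) _ ((secPow hV n).toLinearMap.comp (LinearMap.rTensor Γ(P, V) π)) φ'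
      ((secPow hV n).surjective.comp (LinearMap.rTensor_surjective _ hπ)) (fun p => ?_) ?_ N
      (by omega)
    · induction p using TensorProduct.induction_on with
      | zero => simp only [map_zero, zero_smul]
      | tmul x b =>
        rw [LinearMap.comp_apply, LinearMap.rTensor_tmul, LinearEquiv.coe_coe, secPow_tmul, hφ',
          res_smul, hφ x, chi_tmul, map_mul, mul_smul]
      | add p q hp hq => simp only [map_add, add_smul, hp, hq]
    · intro a ha p hp
      have hp' : p ∈ LinearMap.ker (LinearMap.rTensor Γ(P, V) π) := by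
        rw [LinearMap.mem_ker, LinearMap.comp_apply] at hp
        exact (secPow hV n).injective (hp.trans (map_zero _).symm)
      rw [LinearMap.exact_iff.1 (rTensor_exact _ (LinearMap.exact_subtype_ker_map π) hπ)] at hp'
      obtain ⟨q, rfl⟩ := hp'
      clear hp
      induction q using TensorProduct.induction_on with
      | zero => rw [map_zero, map_zero, smul_zero]
      | tmul x b =>
        rw [LinearMap.rTensor_tmul, hφ', smul_smul]
        refine hk _ ?_ _ x.2
        rw [pow_succ]
        exact Ideal.mul_mem_mul ha ⟨b, rfl⟩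
      | add q r hq hr => rw [map_add, map_add, smul_add, hq, hr, add_zero]

/-- Local existence of lifts. -/
theorem exists_lift_affine [QuasiSeparatedSpace X] (hP : CohB1.IsFP P)
    (hout : ∀ (W : X.Opens) (b : Γ(P, W)), X.basicOpen (fnl σ W b) ≤ U)
    (hU : IsCompact (U : Set X)) {V : X.Opens} (hV : IsAffineOpen V) :
    ∃ N, ∀ n, N ≤ n → ∃ f : Lin P M V n, IsLift σ s V n f := by
  classical
  have hc : IsCompact ((V ⊓ U : X.Opens) : Set X) :=
    hV.isCompact.inter_of_isOpen hU V.isOpen U.isOpen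
  let t : Γ(M, V ⊓ U) := res M inf_le_right s
  let E : Ideal Γ(X, V) :=
    { carrier := {a | ∃ m : Γ(M, V), res M (inf_le_left : V ⊓ U ≤ V) m =
        resFun X (inf_le_left : V ⊓ U ≤ V) a • t}
      zero_mem' := ⟨0, by simp⟩
      add_mem' := fun {a b} ⟨m, hm⟩ ⟨m', hm'⟩ => ⟨m + m', by rw [map_add, hm, hm', map_add, add_smul]⟩
      smul_mem' := fun c a ⟨m, hm⟩ => ⟨c • m, by rw [res_smul, hm, smul_eq_mul, map_mul, mul_smul]⟩ }
  have hrad : img σ V ≤ E.radical := by
    rintro a ⟨b, rfl⟩
    set a := fnl σ V b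
    have hle : X.basicOpen a ≤ V ⊓ U := le_inf (X.basicOpen_le _) (hout V b)
    obtain ⟨k, m, hm⟩ := exists_pow_smul_eq_res M hV a (res M hle t)
    let a' : Γ(X, V ⊓ U) := resFun X inf_le_left a
    have ha' : X.basicOpen a' ≤ X.basicOpen a := by
      rw [basicOpen_resFun]; exact inf_le_right
    obtain ⟨l, hl⟩ := exists_pow_smul_eq_zero_of_isCompact M hc a'
      (res M (inf_le_left : V ⊓ U ≤ V) m - a' ^ k • t) (by
        rw [map_sub, res_smul, map_pow, resFun_resFun, res_res]
        have := congrArg (res M ha') hm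
        simp only [res_res, res_smul, map_pow, resFun_resFun] at this
        rw [this, sub_eq_zero])
    refine ⟨l + k, a ^ l • m, ?_⟩
    rw [res_smul, map_pow, map_pow, pow_add, mul_smul]
    rwa [smul_sub, sub_eq_zero] at hl
  obtain ⟨n₀, hn₀⟩ := Ideal.exists_pow_le_of_le_radical_of_fg hrad (img_fg σ hV hP)
  haveI := fp_pow (P := P) hV hP n₀
  obtain ⟨r, π, hπ⟩ := Module.Finite.exists_fin' Γ(X, V) Γ(CohB1.tensorPow P n₀, V)
  choose m hm using fun i => hn₀ (chi_mem σ hV n₀ (π (Pi.single i 1)))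
  let φ : (Fin r → Γ(X, V)) →ₗ[Γ(X, V)] Γ(M, V) := Fintype.linearCombination Γ(X, V) m
  have hφ : ∀ x, res M (inf_le_left : V ⊓ U ≤ V) (φ x) =
      resFun X (inf_le_left : V ⊓ U ≤ V) (fnl (chi σ n₀) V (π x)) • t := by
    intro x
    conv_rhs => rw [pi_eq_sum_univ' x, map_sum, map_sum, map_sum, Finset.sum_smul]
    simp only [φ, Fintype.linearCombination_apply, map_sum]
    refine Finset.sum_congr rfl fun i _ => ?_
    rw [res_smul, hm, map_smul, map_smul, smul_eq_mul, map_mul, mul_smul]
  obtain ⟨q, K, hK⟩ := Submodule.fg_iff_exists_fin_generating_family.1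
    (Module.FinitePresentation.fg_ker π hπ)
  obtain ⟨k, hk⟩ := Ideal.exists_pow_le_of_le_radical_of_fg
    (img_le_radical_ann σ hV hout (fun i => φ (K i)) fun i => by
      rw [hφ, show π (K i) = 0 from (hK.le (Submodule.subset_span ⟨i, rfl⟩) :)]
      simp) (img_fg σ hV hP)
  obtain ⟨f, hf⟩ := exists_lift_aux hV k n₀ _ π φ hπ hφ (fun a ha x hx => by
    have hx' : φ x ∈ Submodule.span Γ(X, V) (Set.range fun i => φ (K i)) := by
      rw [← hK] at hx
      have := Submodule.mem_map_of_mem (f := φ) hx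
      rwa [Submodule.map_span, ← Set.range_comp] at this
    exact Submodule.mem_annihilator.1 (hk ha) _ hx') _ rfl
  refine ⟨n₀ + k, fun n hn => ?_⟩
  obtain ⟨c, rfl⟩ := Nat.exists_eq_add_of_le hn
  exact ⟨_, hf.iter hV c⟩

/-- **Extension of sections**: `χ_n • s` extends to a map out of the `n`-th tensor power. -/
theorem exists_hom_lift [CompactSpace X] [QuasiSeparatedSpace X] (hP : CohB1.IsFP P)
    (hout : ∀ (W : X.Opens) (b : Γ(P, W)), X.basicOpen (fnl σ W b) ≤ U)
    (hU : IsCompact (U : Set X)) :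
    ∃ N, ∀ n, N ≤ n → ∃ φ : CohB1.tensorPow P n ⟶ M, ∀ (W : X.Opens) (hW : W ≤ U)
      (a : Γ(CohB1.tensorPow P n, W)), φ.app W a = fnl (chi σ n) W a • res M hW s := by
  classical
  obtain ⟨r, V, hV, hcov, -, -⟩ := exists_finite_cover (X := X)
  choose N₀ hN₀ using fun i => exists_lift_affine (s := s) hP hout hU (hV i)
  choose f hf using fun i => hN₀ i (Finset.univ.sup N₀) (Finset.le_sup (Finset.mem_univ i))
  generalize Finset.univ.sup N₀ = n₀ at f hf
  have hover : ∀ i j, ∃ k₀ : ℕ, ∀ k, k₀ ≤ k → ∀ x : X, x ∈ V i → x ∈ V j →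
      ∃ (W : X.Opens) (hW : IsAffineOpen W) (hi : W ≤ V i) (hj : W ≤ V j), x ∈ W ∧
        rlin (hV i) hi (iterLin σ (hV i) (f i) k) = rlin (hV j) hj (iterLin σ (hV j) (f j) k) := by
    intro i j
    have hc : IsCompact ((V i ⊓ V j : X.Opens) : Set X) :=
      (hV i).isCompact.inter_of_isOpen (hV j).isCompact (V i).isOpen (V j).isOpen
    choose W hW hxW hle using fun x : (V i ⊓ V j : X.Opens) =>
      exists_isAffineOpen_mem_and_subset (x := (x : X)) (U := V i ⊓ V j) x.2
    obtain ⟨T, hT⟩ := hc.elim_finite_subcover (fun x => (W x : Set X)) (fun x => (W x).2)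
      (fun x hx => Set.mem_iUnion.2 ⟨⟨x, hx⟩, hxW ⟨x, hx⟩⟩)
    have hWi : ∀ x, W x ≤ V i := fun x => (hle x).trans inf_le_left
    have hWj : ∀ x, W x ≤ V j := fun x => (hle x).trans inf_le_right
    have hk : ∀ x, ∃ k₀, ∀ k, k₀ ≤ k →
        rlin (hV i) (hWi x) (iterLin σ (hV i) (f i) k) =
          rlin (hV j) (hWj x) (iterLin σ (hV j) (f j) k) := by
      intro x
      let d := rlin (hV i) (hWi x) (f i) - rlin (hV j) (hWj x) (f j)
      haveI := fp_pow (P := P) (hW x) hP n₀
      obtain ⟨m, e, he⟩ := Module.Finite.exists_fin (R := Γ(X, W x))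
        (M := Γ(CohB1.tensorPow P n₀, W x))
      have hd : ∀ a, res M (inf_le_left : W x ⊓ U ≤ W x) (d (e a)) = 0 := by
        intro a
        refine Groth.PicAux.res_ext (M := M) (fun B : {B : X.Opens // IsAffineOpen B ∧ B ≤ W x ⊓ U} => B.1)
          (fun B => B.2.2) (fun z hz => ?_) fun B => ?_
        · obtain ⟨B, hB, hzB, hBle⟩ := exists_isAffineOpen_mem_and_subset hz
          exact Opens.mem_iSup.2 ⟨⟨B, hB, hBle⟩, hzB⟩
        change res M B.2.2 (res M inf_le_left (d (e a))) = res M B.2.2 0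
        have hBW : B.1 ≤ W x := B.2.2.trans inf_le_left
        have hBU : B.1 ≤ U := B.2.2.trans inf_le_right
        rw [res_res, map_zero, LinearMap.sub_apply, map_sub, sub_eq_zero]
        have key : ∀ (l : Fin r) (hl : W x ≤ V l),
            res M hBW (rlin (hV l) hl (f l) (e a)) =
              fnl (chi σ n₀) B.1 (res _ hBW (e a)) • res M hBU s := by
          intro l hl
          rw [← (hf l).eq_of_le (hV l) B.2.1 (hBW.trans hl) hBU,
            ← rlin_res (hW x) hBW (rlin (hV l) hl (f l)) (e a)]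
          refine congrArg (fun g : Lin P M B.1 n₀ => g _) (lin_ext_res (hV l) B.2.1 (hBW.trans hl) fun b => ?_)
          rw [← res_res _ hl hBW, rlin_res, rlin_res, res_res, res_res, rlin_res]
        exact (key i (hWi x)).trans (key j (hWj x)).symm
      obtain ⟨k₀, hk₀⟩ := Ideal.exists_pow_le_of_le_radical_of_fg
        (img_le_radical_ann σ (hW x) hout (fun a => d (e a)) hd) (img_fg σ (hW x) hP)
      refine ⟨k₀, fun k hk => ?_⟩
      rw [rlin_iter σ (hV i) (hW x), rlin_iter σ (hV j) (hW x)]
      refine LinearMap.ext fun t => sub_eq_zero.1 ?_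
      have h1 := iter_sub_mem σ (hW x) (rlin (hV i) (hWi x) (f i)) (rlin (hV j) (hWj x) (f j))
        (Submodule.span Γ(X, W x) (Set.range fun a => d (e a))) (fun a => by
          have : d a ∈ Submodule.map d (Submodule.span Γ(X, W x) (Set.range e)) :=
            Submodule.mem_map_of_mem (he.ge trivial)
          rwa [Submodule.map_span, ← Set.range_comp] at this) k t
      refine Submodule.mem_bot Γ(X, W x) |>.1 ((Submodule.smul_le.2 fun a ha z hz => ?_) h1)
      rw [Submodule.mem_bot]
      exact Submodule.mem_annihilator.1 (hk₀ (Ideal.pow_le_pow_right hk ha)) z hz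
    choose k₀ hk₀ using hk
    refine ⟨T.sup k₀, fun k hk x hxi hxj => ?_⟩
    obtain ⟨y, hy, hxy⟩ := Set.mem_iUnion₂.1 (hT ⟨hxi, hxj⟩)
    exact ⟨W y, hW y, hWi y, hWj y, hxy, hk₀ y k ((Finset.le_sup hy).trans hk)⟩
  choose K hK using hover
  let k₁ := Finset.univ.sup fun i => Finset.univ.sup (K i)
  refine ⟨n₀ + k₁, fun n hn => ?_⟩
  obtain ⟨c, rfl⟩ := Nat.exists_eq_add_of_le hn
  rw [add_assoc]
  set k := k₁ + c
  haveI := isQCoh_pow (P := P) (n₀ + k)
  choose g hg using fun i => Groth.RefRank.secToLin_surjective (hV i) (iterLin σ (hV i) (f i) k)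
  have hstalk : ∀ i j (x : X) (hi : x ∈ V i) (hj : x ∈ V j),
      (g i).1 ⟨x, hi⟩ = (g j).1 ⟨x, hj⟩ := by
    intro i j x hi hj
    obtain ⟨W, hW, hWi, hWj, hxW, e⟩ := hK i j k
      (((Finset.le_sup (Finset.mem_univ j)).trans (Finset.le_sup (f := fun i => Finset.univ.sup (K i))
        (Finset.mem_univ i))).trans (Nat.le_add_right _ _)) x hi hj
    refine Groth.RefRank.stalkHom_ext hW hxW fun a => ?_
    have key : ∀ (l : Fin r) (hl : W ≤ V l) (hxl : x ∈ V l),
        (g l).1 ⟨x, hxl⟩ (germ _ x hxW a) =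
          germ M x hxW (rlin (hV l) hl (iterLin σ (hV l) (f l) k) a) := by
      intro l hl hxl
      have h2 : rlin (hV l) hl (iterLin σ (hV l) (f l) k) =
          Groth.RefRank.secToLin (res _ hl (g l)) := by
        refine lin_ext_res (hV l) hW hl fun b => ?_
        rw [rlin_res, Groth.RefRank.secToLin_res hl (g l) b, hg]
      rw [h2, Groth.RefRank.germ_secToLin]
      rfl
    rw [key i hWi hi, key j hWj hj, e]
  obtain ⟨φ, hφ⟩ := Groth.PicAux.exists_hom_of_cover (L := CohB1.tensorPow P (n₀ + k)) (M := M)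
    (U := V) hcov (fun i W h a => Groth.RefRank.applySec (g i) h a)
    (fun i W h a b => Groth.RefRank.mod_section_ext M fun x hx => by
      simp only [map_add, Groth.RefRank.germ_applySec])
    (fun i W h c a => Groth.RefRank.mod_section_ext M fun x hx => by
      rw [germ_smul, Groth.RefRank.germ_applySec, Groth.RefRank.germ_applySec, germ_smul]
      exact map_smul ((g i).1 ⟨x, h hx⟩) _ _)
    (fun i W W' h h' a => Groth.RefRank.res_applySec (g i) h h' a)
    (fun i j W hi hj a => Groth.RefRank.mod_section_ext M fun x hx => by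
      rw [Groth.RefRank.germ_applySec, Groth.RefRank.germ_applySec, hstalk i j x (hi hx) (hj hx)])
  refine ⟨φ, fun W hWU a => Groth.RefRank.mod_section_ext M fun x hx => ?_⟩
  obtain ⟨i, hi⟩ := Opens.mem_iSup.1 (hcov.ge (Opens.mem_top x))
  obtain ⟨B, hB, hxB, hBle⟩ := exists_isAffineOpen_mem_and_subset (x := x) (U := W ⊓ V i) ⟨hx, hi⟩
  have hBW : B ≤ W := hBle.trans inf_le_left
  have hBi : B ≤ V i := hBle.trans inf_le_right
  suffices h : res M hBW (φ.app W a) = res M hBW (fnl (chi σ (n₀ + k)) W a • res M hWU s) by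
    have := congrArg (germ M x hxB) h
    rwa [germ_res, germ_res] at this
  rw [res_app, res_smul, res_res, ← fnl_res, hφ i B hBi,
    ← ((hf i).iter (hV i) k).eq_of_le (hV i) hB hBi (hBW.trans hWU)]
  refine Groth.RefRank.mod_section_ext M fun y hy => ?_
  have h2 : rlin (hV i) hBi (iterLin σ (hV i) (f i) k) = Groth.RefRank.secToLin (res _ hBi (g i)) := by
    refine lin_ext_res (hV i) hB hBi fun b => ?_
    rw [rlin_res, Groth.RefRank.secToLin_res hBi (g i) b, hg]
  rw [Groth.RefRank.germ_applySec, h2, Groth.RefRank.germ_secToLin]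
  rfl

end lift

end Groth.ResPropQC
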